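import Mathlib.LinearAlgebra.QuadraticForm.Basic
import Mathlib.LinearAlgebra.QuadraticForm.Basis
import Mathlib.FieldTheory.ChevalleyWarning
import Mathlib.LinearAlgebra.FiniteDimensional.Lemmas
import Mathlib.Tactic.LinearCombination
import Mathlib.RingTheory.MvPolynomial.Homogeneous

/-!
The number of zeros of a nondegenerate quadratic form over a finite field.
-/

universe u v

open QuadraticMap Module

namespace Groth.Agent.Lib.Quad45.Count

variable {k : Type u} [Field k] [Fintype k] {V : Type v} [AddCommGroup V] [Module k V]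

/-- No vector of the radical is isotropic. -/
def Nondeg (Q : QuadraticForm k V) : Prop :=
  ∀ v, (∀ w, polar Q v w = 0) → Q v = 0 → v = 0

/-- A totally isotropic subspace of dimension `m` exists. -/
def HasIso (Q : QuadraticForm k V) (m : ℕ) : Prop :=
  ∃ W : Submodule k V, finrank k W = m ∧ ∀ w ∈ W, Q w = 0

variable [FiniteDimensional k V]

theorem exists_isotropic (Q : QuadraticForm k V) (h3 : 3 ≤ finrank k V) : ∃ e, e ≠ 0 ∧ Q e = 0 := by
  classical
  obtain ⟨p, hp⟩ := CharP.exists k
  haveI : Fact p.Prime := ⟨CharP.char_is_prime k p⟩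
  let b := Module.finBasis k V
  let B := Q.toBilin b
  let f : MvPolynomial (Fin (finrank k V)) k :=
    ∑ i, ∑ j, MvPolynomial.C (B (b i) (b j)) * (MvPolynomial.X i * MvPolynomial.X j)
  have heval : ∀ x : Fin (finrank k V) → k, MvPolynomial.eval x f = Q (∑ i, x i • b i) := by
    intro x
    have hQ : Q (∑ i, x i • b i) = B (∑ i, x i • b i) (∑ i, x i • b i) := by
      conv_lhs => rw [← toQuadraticMap_toBilin Q b]
      rfl
    rw [hQ]
    simp only [f, map_sum, LinearMap.sum_apply, map_smul, LinearMap.smul_apply, map_mul,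
      MvPolynomial.eval_C, MvPolynomial.eval_X, smul_eq_mul, Finset.mul_sum]
    conv_rhs => rw [Finset.sum_comm]
    refine Finset.sum_congr rfl fun i _ => Finset.sum_congr rfl fun j _ => ?_
    ring
  have hhom : f.IsHomogeneous 2 :=
    MvPolynomial.IsHomogeneous.sum _ _ _ fun i _ => MvPolynomial.IsHomogeneous.sum _ _ _ fun j _ =>
      ((MvPolynomial.isHomogeneous_X k i).mul (MvPolynomial.isHomogeneous_X k j)).C_mul _
  have hdvd : p ∣ Fintype.card { x : Fin (finrank k V) → k // MvPolynomial.eval x f = 0 } :=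
    char_dvd_card_solutions p (by
      have := hhom.totalDegree_le
      rw [Fintype.card_fin]
      omega)
  have h0 : MvPolynomial.eval (0 : Fin (finrank k V) → k) f = 0 := by rw [heval]; simp
  have hcard : 2 ≤ Fintype.card { x : Fin (finrank k V) → k // MvPolynomial.eval x f = 0 } :=
    (Fact.out : p.Prime).two_le.trans (Nat.le_of_dvd (Fintype.card_pos_iff.2 ⟨⟨0, h0⟩⟩) hdvd)
  obtain ⟨⟨x, hx⟩, hne⟩ := Fintype.exists_ne_of_one_lt_card (by omega)
    (⟨0, h0⟩ : { x : Fin (finrank k V) → k // MvPolynomial.eval x f = 0 })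
  refine ⟨∑ i, x i • b i, fun h => hne (Subtype.ext (funext ?_)), by rw [← heval]; exact hx⟩
  exact Fintype.linearIndependent_iff.1 b.linearIndependent x h

section Split

variable (Q : QuadraticForm k V) (hQ : Nondeg Q) {e : V} (he : Q e = 0) (he0 : e ≠ 0)

omit [Fintype k] [FiniteDimensional k V] in
include hQ he he0 in
theorem exists_partner : ∃ f, Q f = 0 ∧ polar Q e f = 1 := by
  obtain ⟨w, hw⟩ : ∃ w, polar Q e w ≠ 0 := by
    by_contra hc
    push Not at hc
    exact he0 (hQ e hc he)
  obtain ⟨g, hg⟩ : ∃ g, g = (polar Q e w)⁻¹ • w := ⟨_, rfl⟩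
  have hg1 : polar Q e g = 1 := by rw [hg, polar_smul_right, smul_eq_mul, inv_mul_cancel₀ hw]
  have hee : polar Q e e = 0 := by rw [polar_self, he, smul_zero]
  refine ⟨g + (-(Q g)) • e, ?_, ?_⟩
  · rw [QuadraticMap.map_add Q, QuadraticMap.map_smul Q, he, polar_smul_right, polar_comm (⇑Q) g e, hg1]
    simp
  · rw [polar_add_right, polar_smul_right, hg1, hee, smul_zero, add_zero]

variable {f : V} (hf : Q f = 0) (hef : polar Q e f = 1)

/-- The orthogonal complement of a hyperbolic pair. -/
def orth (Q : QuadraticForm k V) (e f : V) : Submodule k V :=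
  LinearMap.ker (polarBilin Q e) ⊓ LinearMap.ker (polarBilin Q f)

omit [Fintype k] [FiniteDimensional k V] in
theorem mem_orth {u : V} : u ∈ orth Q e f ↔ polar Q e u = 0 ∧ polar Q f u = 0 := Iff.rfl

/-- The coordinates of a hyperbolic pair and its complement. -/
def glue (Q : QuadraticForm k V) (e f : V) : (k × k) × orth Q e f →ₗ[k] V :=
  ((LinearMap.toSpanSingleton k V e).coprod (LinearMap.toSpanSingleton k V f)).coprod
    (orth Q e f).subtype

omit [Fintype k] [FiniteDimensional k V] in
theorem glue_apply (x : (k × k) × orth Q e f) :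
    glue Q e f x = x.1.1 • e + x.1.2 • f + (x.2 : V) := rfl

omit [Fintype k] [FiniteDimensional k V] in
include he hf hef in
theorem glue_bijective : Function.Bijective (glue Q e f) := by
  have hee : polar Q e e = 0 := by rw [polar_self, he, smul_zero]
  have hff : polar Q f f = 0 := by rw [polar_self, hf, smul_zero]
  have hfe : polar Q f e = 1 := by rw [polar_comm, hef]
  constructor
  · intro x y h
    rw [glue_apply, glue_apply] at h
    have h1 := congrArg (polar Q e) h
    have h2 := congrArg (polar Q f) h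
    simp only [polar_add_right, polar_smul_right, hee, hef, hff, hfe, ((mem_orth Q).1 x.2.2).1,
      ((mem_orth Q).1 x.2.2).2, ((mem_orth Q).1 y.2.2).1, ((mem_orth Q).1 y.2.2).2, smul_eq_mul,
      mul_zero, mul_one, add_zero, zero_add] at h1 h2
    rw [h1, h2, add_right_inj] at h
    exact Prod.ext (Prod.ext h2 h1) (Subtype.ext h)
  · intro v
    refine ⟨((polar Q f v, polar Q e v), ⟨v - polar Q f v • e - polar Q e v • f, ?_⟩), ?_⟩
    · rw [mem_orth]
      simp only [sub_eq_add_neg, ← neg_smul, polar_add_right, polar_smul_right, hee, hef, hff, hfe,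
        smul_eq_mul]
      constructor <;> ring
    · rw [glue_apply]
      simp only
      abel

omit [Fintype k] [FiniteDimensional k V] in
include he hf hef in
theorem apply_glue (x : (k × k) × orth Q e f) :
    Q (glue Q e f x) = x.1.1 * x.1.2 + Q (x.2 : V) := by
  rw [glue_apply, QuadraticMap.map_add Q, QuadraticMap.map_add Q, polar_add_left, polar_smul_left,
    polar_smul_left, polar_smul_left, polar_smul_right, ((mem_orth Q).1 x.2.2).1,
    ((mem_orth Q).1 x.2.2).2, QuadraticMap.map_smul Q, QuadraticMap.map_smul Q, he, hf, hef]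
  simp only [smul_eq_mul]
  ring

omit [Fintype k] in
include he hf hef in
theorem finrank_orth : finrank k V = finrank k (orth Q e f) + 2 := by
  rw [← (LinearEquiv.ofBijective _ (glue_bijective Q he hf hef)).finrank_eq,
    Module.finrank_prod, Module.finrank_prod, Module.finrank_self, add_comm]

omit [Fintype k] [FiniteDimensional k V] in
include hQ he hf hef in
theorem nondeg_orth : Nondeg (Q.comp (orth Q e f).subtype) := by
  intro v hv hv0
  refine Subtype.ext (hQ v (fun w => ?_) hv0)
  obtain ⟨x, rfl⟩ := (glue_bijective Q he hf hef).2 w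
  have h3 : polar Q (v : V) (x.2 : V) = 0 := by
    have := hv x.2
    simpa [polar] using this
  rw [glue_apply, polar_add_right, polar_add_right, polar_smul_right, polar_smul_right,
    polar_comm _ _ e, polar_comm _ _ f, ((mem_orth Q).1 v.2).1, ((mem_orth Q).1 v.2).2, h3]
  simp

include he hf hef in
theorem card_zeros : Nat.card { v // Q v = 0 } =
    Nat.card k * Nat.card { u : orth Q e f // (Q.comp (orth Q e f).subtype) u = 0 } +
      (Nat.card k - 1) * Nat.card k ^ finrank k (orth Q e f) := by
  classical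
  haveI : Finite V := Module.finite_of_finite k
  let e₁ : { v // Q v = 0 } ≃ { x : (k × k) × orth Q e f // x.1.1 * x.1.2 + Q (x.2 : V) = 0 } :=
    ((LinearEquiv.ofBijective _ (glue_bijective Q he hf hef)).toEquiv.subtypeEquiv fun x => by
      simp [apply_glue Q he hf hef]).symm
  let e₂ : { x : (k × k) × orth Q e f // x.1.1 * x.1.2 + Q (x.2 : V) = 0 } ≃
      (k × { u : orth Q e f // (Q.comp (orth Q e f).subtype) u = 0 }) ⊕ (kˣ × orth Q e f) :=
    { toFun := fun x => if h : x.1.1.2 = 0 then
          Sum.inl (x.1.1.1, ⟨x.1.2, by simpa [h] using x.2⟩)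
        else Sum.inr (Units.mk0 _ h, x.1.2)
      invFun := fun y => match y with
        | Sum.inl (s, u) => ⟨((s, 0), u.1), by simpa using u.2⟩
        | Sum.inr (t, u) => ⟨((-(Q (u : V)) / (t : k), (t : k)), u), by
            simp only
            rw [div_mul_cancel₀ _ t.ne_zero, neg_add_cancel]⟩
      left_inv := fun x => by
        obtain ⟨⟨⟨s, t⟩, u⟩, hx⟩ := x
        by_cases h : t = 0
        · subst h; simp
        · simp only [h, ↓reduceDIte, Units.val_mk0, Subtype.mk.injEq, Prod.mk.injEq, and_true]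
          rw [div_eq_iff h]
          linear_combination -hx
      right_inv := fun y => by
        rcases y with ⟨s, u⟩ | ⟨t, u⟩
        · simp
        · simp [t.ne_zero] }
  rw [Nat.card_congr (e₁.trans e₂), Nat.card_sum, Nat.card_prod, Nat.card_prod, Nat.card_units,
    Module.natCard_eq_pow_finrank (K := k) (V := orth Q e f)]

omit [Fintype k] in
include he hf hef in
theorem hasIso_succ {m : ℕ} (h : HasIso (Q.comp (orth Q e f).subtype) m) : HasIso Q (m + 1) := by
  obtain ⟨W, hW, hWQ⟩ := h
  have he0 : e ≠ 0 := by rintro rfl; simp at hef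
  refine ⟨Submodule.span k {e} ⊔ W.map (orth Q e f).subtype, ?_, ?_⟩
  · have hinf : Submodule.span k {e} ⊓ W.map (orth Q e f).subtype = ⊥ := by
      rw [eq_bot_iff]
      rintro x ⟨hx1, ⟨u, hu, rfl⟩⟩
      obtain ⟨c, hc⟩ := Submodule.mem_span_singleton.1 hx1
      have hu2 := ((mem_orth Q).1 u.2).2
      rw [show (u : V) = c • e from hc.symm, polar_smul_right, polar_comm, hef, smul_eq_mul,
        mul_one] at hu2
      simpa [hu2] using hc.symm
    have h2 := Submodule.finrank_sup_add_finrank_inf_eq (Submodule.span k {e})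
      (W.map (orth Q e f).subtype)
    rw [hinf, finrank_bot, finrank_span_singleton he0,
      LinearEquiv.finrank_eq (Submodule.equivMapOfInjective _ (orth Q e f).injective_subtype W).symm,
      hW] at h2
    omega
  · rintro x hx
    obtain ⟨a, ha, b, ⟨u, hu, rfl⟩, rfl⟩ := Submodule.mem_sup.1 hx
    obtain ⟨c, rfl⟩ := Submodule.mem_span_singleton.1 ha
    have h1 : Q (u : V) = 0 := hWQ u hu
    rw [QuadraticMap.map_add Q, QuadraticMap.map_smul Q, he, polar_smul_left]
    simp [h1, ((mem_orth Q).1 u.2).1]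

omit [Fintype k] in
include hef in
theorem hasIso_pred {m : ℕ} {W : Submodule k V} (hW : finrank k W = m + 1)
    (hWQ : ∀ w ∈ W, Q w = 0) (heW : e ∈ W) : HasIso (Q.comp (orth Q e f).subtype) m := by
  refine ⟨W.comap (orth Q e f).subtype, ?_, fun u hu => hWQ _ hu⟩
  have hle : W ≤ LinearMap.ker (polarBilin Q e) := by
    intro w hw
    change polar Q e w = 0
    rw [polar, hWQ _ (W.add_mem heW hw), hWQ _ heW, hWQ _ hw, sub_zero, sub_zero]
  let φ : W →ₗ[k] k := (polarBilin Q f).comp W.subtype
  have hsurj : Function.Surjective φ := fun c => ⟨⟨c • e, W.smul_mem c heW⟩, by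
    simp [φ, polar_comm _ f e, hef]⟩
  have hker := φ.finrank_range_add_finrank_ker
  rw [LinearMap.range_eq_top.2 hsurj, finrank_top, Module.finrank_self, hW] at hker
  have e3 : W.comap (orth Q e f).subtype ≃ₗ[k] LinearMap.ker φ :=
    { toFun := fun u => ⟨⟨((u : orth Q e f) : V), u.2⟩, ((mem_orth Q).1 u.1.2).2⟩
      invFun := fun w => ⟨⟨((w : W) : V), ⟨hle w.1.2, w.2⟩⟩, w.1.2⟩
      map_add' := fun _ _ => rfl
      map_smul' := fun _ _ => rfl
      left_inv := fun _ => rfl
      right_inv := fun _ => rfl }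
  rw [e3.finrank_eq]
  omega

end Split

omit [FiniteDimensional k V] in
/-- The count, with the sign. -/
theorem card_zeros_eq : ∀ (d : ℕ) (V : Type v) [AddCommGroup V] [Module k V] [FiniteDimensional k V]
    (Q : QuadraticForm k V), Nondeg Q → finrank k V = d →
      (Odd d → (Nat.card k : ℤ) * Nat.card { v // Q v = 0 } = (Nat.card k : ℤ) ^ d) ∧
      (∀ m, d = 2 * m → ∀ ε : ℤ, (ε = 1 ∧ HasIso Q m ∨ ε = -1 ∧ ¬ HasIso Q m) →
        (Nat.card k : ℤ) * Nat.card { v // Q v = 0 } =
          (Nat.card k : ℤ) ^ d + ε * ((Nat.card k : ℤ) ^ (m + 1) - (Nat.card k : ℤ) ^ m)) := by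
  intro d
  induction d using Nat.strong_induction_on with
  | _ d ih =>
  intro V _ _ _ Q hQ hd
  set q := (Nat.card k : ℤ) with hq
  have hq1 : 1 ≤ Nat.card k := Nat.card_pos
  by_cases hiso : ∃ e, e ≠ 0 ∧ Q e = 0
  · have step : ∀ e f : V, Q e = 0 → Q f = 0 → polar Q e f = 1 → ∀ d', d = d' + 2 →
        (∀ m', d' = 2 * m' → ∀ ε : ℤ,
          (ε = 1 ∧ HasIso (Q.comp (orth Q e f).subtype) m' ∨
            ε = -1 ∧ ¬ HasIso (Q.comp (orth Q e f).subtype) m') →
          q * Nat.card { v // Q v = 0 } = q ^ d + ε * (q ^ (m' + 2) - q ^ (m' + 1))) ∧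
        (Odd d' → q * Nat.card { v // Q v = 0 } = q ^ d) := by
      intro e f he hf hef d' hd'
      have hU : finrank k (orth Q e f) = d' := by
        have := finrank_orth Q he hf hef
        omega
      have hnd := nondeg_orth Q hQ he hf hef
      have hc := card_zeros Q he hf hef
      rw [hU] at hc
      obtain ⟨h1, h2⟩ := ih d' (by omega) _ _ hnd hU
      rw [hc]
      push_cast [Nat.cast_sub hq1]
      subst hd'
      constructor
      · intro m' hm' ε hε
        have := h2 m' hm' ε hε
        linear_combination q * this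
      · intro ho
        have := h1 ho
        linear_combination q * this
    obtain ⟨e₀, he₀, he₀Q⟩ := hiso
    obtain ⟨f₀, hf₀Q, hef₀⟩ := exists_partner Q hQ he₀Q he₀
    have hd2 := finrank_orth Q he₀Q hf₀Q hef₀
    obtain ⟨d', rfl⟩ : ∃ d', d = d' + 2 := ⟨_, hd.symm.trans hd2⟩
    constructor
    · intro ho
      exact (step e₀ f₀ he₀Q hf₀Q hef₀ d' rfl).2 (by simpa [parity_simps] using ho)
    · intro m hm ε hε
      obtain ⟨m', rfl⟩ : ∃ m', m = m' + 1 := ⟨m - 1, by omega⟩
      rcases hε with ⟨rfl, W, hW, hWQ⟩ | ⟨rfl, hno⟩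
      · obtain ⟨e, heW, he0⟩ := Submodule.exists_mem_ne_zero_of_ne_bot (p := W) (by
          rintro rfl; rw [finrank_bot] at hW; omega)
        obtain ⟨f, hfQ, hef⟩ := exists_partner Q hQ (hWQ e heW) he0
        exact (step e f (hWQ e heW) hfQ hef d' rfl).1 m' (by omega) 1
          (Or.inl ⟨rfl, hasIso_pred Q hef hW hWQ heW⟩)
      · exact (step e₀ f₀ he₀Q hf₀Q hef₀ d' rfl).1 m' (by omega) (-1)
          (Or.inr ⟨rfl, fun h => hno (hasIso_succ Q he₀Q hf₀Q hef₀ h)⟩)
  · push Not at hiso
    have hd3 : d ≤ 2 := by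
      by_contra hlt
      obtain ⟨e, he0, he⟩ := exists_isotropic Q (by omega)
      exact hiso e he0 he
    have hZ : Nat.card { v // Q v = 0 } = 1 := by
      have : Subsingleton { v // Q v = 0 } := ⟨fun a b => Subtype.ext (by
        rw [show a.1 = 0 from by by_contra h; exact hiso _ h a.2,
          show b.1 = 0 from by by_contra h; exact hiso _ h b.2])⟩
      haveI : Nonempty { v // Q v = 0 } := ⟨⟨0, map_zero Q⟩⟩
      exact Nat.card_of_subsingleton (Classical.arbitrary _)
    rw [hZ]
    constructor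
    · intro ho
      obtain rfl : d = 1 := by obtain ⟨t, rfl⟩ := ho; omega
      simp
    · intro m hm ε hε
      obtain rfl | rfl : m = 0 ∨ m = 1 := by omega
      · have h0 : HasIso Q 0 := ⟨⊥, finrank_bot k V, fun w hw => by
          rw [(Submodule.mem_bot k).1 hw, map_zero]⟩
        obtain ⟨rfl, -⟩ | ⟨-, hno⟩ := hε
        · subst hm; simp
        · exact absurd h0 hno
      · obtain ⟨-, W, hW, hWQ⟩ | ⟨rfl, -⟩ := hε
        · obtain ⟨e, heW, he0⟩ := Submodule.exists_mem_ne_zero_of_ne_bot (p := W) (by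
            rintro rfl; rw [finrank_bot] at hW; omega)
          exact absurd (hWQ e heW) (hiso e he0)
        · subst hm; push_cast; ring

end Groth.Agent.Lib.Quad45.Count
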