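import Groth.Agent.Lib.Quad45.Count
import Groth.Agent.Lib.Zeta45.ProjPoints
import Groth.Agent.Lib.LefPen45.Classical
import Groth.Agent.Lib.ProjTilde.QCoh
import Mathlib.LinearAlgebra.Matrix.BilinearForm

/-!
Rational points of a smooth quadric hypersurface.
-/

set_option autoImplicit false
set_option backward.isDefEq.respectTransparency.types false
set_option linter.style.haveILetI false

universe u

open CategoryTheory AlgebraicGeometry MvPolynomial TopologicalSpace
open LefPen Groth.Agent.Lib.ProjSpace Groth.Agent.Lib.LefPen45 Groth.Agent.Lib.Zeta45.ProjPoints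

namespace Groth.Agent.Lib.Quad45.Geom

variable {k : Type u} [Field k]

section Algebra

variable {σ : Type} [Fintype σ]

theorem exists_coeffs (Q : MvPolynomial σ k) (hQ : Q.IsHomogeneous 2) :
    ∃ c : σ × σ → k, Q = ∑ x : σ × σ, C (c x) * (X x.1 * X x.2) := by
  have h : Q ∈ (homogeneousSubmodule σ k 1) ^ 2 := by
    rw [homogeneousSubmodule_one_pow]; exact hQ
  rw [pow_two, homogeneousSubmodule_one_eq_span_X, Submodule.span_mul_span, ← Set.image2_mul,
    Set.image2_range] at h
  obtain ⟨c, hc⟩ := (Submodule.mem_span_range_iff_exists_fun k).1 h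
  exact ⟨c, by rw [← hc]; simp [smul_eq_C_mul]⟩

theorem exists_quadraticForm (Q : MvPolynomial σ k) (hQ : Q.IsHomogeneous 2) :
    ∃ φ : QuadraticForm k (σ → k), (∀ v, φ v = eval v Q) ∧
      ∀ v w, QuadraticMap.polar φ v w = Affine.dd v w Q := by
  classical
  obtain ⟨c, hc⟩ := exists_coeffs Q hQ
  let B := Matrix.toBilin' (Matrix.of fun i j => c (i, j))
  refine ⟨LinearMap.BilinMap.toQuadraticMap B, fun v => ?_, fun v w => ?_⟩
  · rw [hc, LinearMap.BilinMap.toQuadraticMap_apply]
    simp only [B, Matrix.toBilin'_apply, Matrix.of_apply, map_sum, map_mul, eval_C, eval_X,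
      Fintype.sum_prod_type]
    refine Finset.sum_congr rfl fun i _ => Finset.sum_congr rfl fun j _ => ?_
    ring
  · rw [hc, LinearMap.BilinMap.polar_toQuadraticMap, ← Affine.dualHom_snd]
    simp only [B, Matrix.toBilin'_apply, Matrix.of_apply, map_sum, map_mul, TrivSqZeroExt.snd_sum,
      Fintype.sum_prod_type]
    conv_lhs => rw [← Finset.sum_add_distrib]
    refine Finset.sum_congr rfl fun i _ => ?_
    rw [← Finset.sum_add_distrib]
    refine Finset.sum_congr rfl fun j _ => ?_
    simp [Affine.dualHom, TrivSqZeroExt.algebraMap_eq_inl]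
    ring

theorem dd_mul (a w : σ → k) (p q : MvPolynomial σ k) :
    Affine.dd a w (p * q) = eval a p * Affine.dd a w q + eval a q * Affine.dd a w p := by
  rw [← Affine.dualHom_snd, ← Affine.dualHom_snd, ← Affine.dualHom_snd, map_mul,
    TrivSqZeroExt.snd_mul, Affine.dualHom_fst, Affine.dualHom_fst]
  simp [mul_comm]

end Algebra

variable {r d : ℕ} (G : Form r k d)

theorem ker_coords (j : Fin (r + 1)) :
    RingHom.ker (Chart.coords k (hypIdeal G).subschemeι j) =
      Ideal.span {Chart.dehomJ k j G.1} := by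
  have hA : IsIso (Proj.awayToSection (CohB1.polyGrading r k) (MvPolynomial.X j)) :=
    (Proj.basicOpenIsoAway (CohB1.polyGrading r k) _ (Charts.X_mem_one j) one_pos).isIso_hom
  have hb := ConcreteCategory.bijective_of_isIso
    (Proj.awayToSection (CohB1.polyGrading r k) (MvPolynomial.X j))
  let e : MvPolynomial (Fin r) k ≃+* Γ(CohB1.ProjSpace r k, chart r k j) :=
    (Charts.chartEquiv k j).trans (RingEquiv.ofBijective _ hb)
  have he : e (Chart.dehomJ k j G.1) = dehom G j := by
    change (Proj.awayToSection (CohB1.polyGrading r k) (MvPolynomial.X j)).hom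
      (Charts.chartEquiv k j (Chart.dehomJ k j G.1)) = _
    rw [Chart.chartEquiv_dehomJ_eq_mk k j (e := d) (by simpa using G.2)]
    rfl
  ext p
  have h1 : p ∈ RingHom.ker (Chart.coords k (hypIdeal G).subschemeι j) ↔
      e p ∈ RingHom.ker ((hypIdeal G).subschemeι.app (chart r k j)).hom := Iff.rfl
  rw [h1, (hypIdeal G).ker_subschemeι_app (HypSheaf.chartAff k j), HypSheaf.hypIdeal_chart, ← he,
    Ideal.mem_span_singleton, Ideal.mem_span_singleton, map_dvd_iff]

theorem nondeg_of_smooth {n : ℕ} (Q : Form (n + 1) k 2)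
    [SmoothOfRelativeDimension n ((hypIdeal Q).subschemeι ≫ CohB1.ProjSpace.toSpec (n + 1) k)]
    (φ : QuadraticForm k (Fin (n + 1 + 1) → k)) (hev : ∀ v, φ v = eval v Q.1)
    (hpol : ∀ v w, QuadraticMap.polar φ v w = Affine.dd v w Q.1) : Count.Nondeg φ := by
  intro v hv hv0
  by_contra hne
  obtain ⟨j, hj⟩ := Function.ne_iff.1 hne
  let a : Fin (n + 1) → k := fun l => (v j)⁻¹ * v (j.succAbove l)
  have ha : j.insertNth (1 : k) a = (v j)⁻¹ • v := by
    funext l
    rcases Fin.eq_self_or_eq_succAbove j l with rfl | ⟨l', rfl⟩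
    · simp [inv_mul_cancel₀ (show v l ≠ 0 from hj)]
    · simp [a]
  have ha0 : eval a (Chart.dehomJ k j Q.1) = 0 := by
    rw [Chart.eval_dehomJ, ha, ← hev, QuadraticMap.map_smul φ, hv0, smul_zero]
  have hd : ∀ w, Affine.dd a w (Chart.dehomJ k j Q.1) = 0 := fun w => by
    rw [Classical.dd_dehomJ, ha, ← hpol, QuadraticMap.polar_smul_left, hv, smul_zero]
  have hker : RingHom.ker (Chart.coords k (hypIdeal Q).subschemeι j) ≤ RingHom.ker (eval a) := by
    rw [ker_coords, Ideal.span_le, Set.singleton_subset_iff]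
    exact ha0
  have hdim := Affine.finrank_tan_of_locally (Chart.coords k (hypIdeal Q).subschemeι j)
    (Chart.coords_surjective k (hypIdeal Q).subschemeι j) a hker n
    (Chart.locally_coord k (hypIdeal Q).subschemeι (n := n) j)
  have htop : Affine.Tan (RingHom.ker (Chart.coords k (hypIdeal Q).subschemeι j)) a = ⊤ := by
    refine eq_top_iff.2 fun w _ p hp => ?_
    rw [ker_coords, Ideal.mem_span_singleton] at hp
    obtain ⟨q, rfl⟩ := hp
    rw [dd_mul, ha0, hd w]
    simp
  rw [htop, finrank_top, Module.finrank_fintype_fun_eq_card, Fintype.card_fin] at hdim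
  omega

theorem mem_support_iff (j : Fin (r + 1)) (v : Fin r → k) :
    (chartPt (k := k) j v).1.base (IsLocalRing.closedPoint k) ∈ (hypIdeal G).support ↔
      eval (j.insertNth (1 : k) v) G.1 = 0 := by
  have hxj := chartPt_mem_self (k := k) j v
  refine (Scheme.IdealSheafData.mem_support_iff_of_mem (U := HypSheaf.chartAff k j) hxj).trans ?_
  rw [HypSheaf.hypIdeal_chart, Scheme.zeroLocus_span, Scheme.mem_zeroLocus_iff]
  simp only [Set.mem_singleton_iff, forall_eq]
  have h : (CohB1.ProjSpace r k).basicOpen (LefPen.dehom G j) =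
      Proj.basicOpen (CohB1.polyGrading r k) (MvPolynomial.X j * G.1) :=
    ProjTilde.QCoh.basicOpen_awayToSection (𝒜 := CohB1.polyGrading r k) (LefPen.X_mem r k j) d G.1
      (by rw [smul_eq_mul, mul_one]; exact G.2)
  rw [h, Proj.basicOpen_mul]
  have hG : (chartPt (k := k) j v).1.base (IsLocalRing.closedPoint k) ∈
      Proj.basicOpen (CohB1.polyGrading r k) G.1 ↔ eval (j.insertNth (1 : k) v) G.1 ≠ 0 := by
    rcases Nat.eq_zero_or_pos d with hd | hd
    · subst hd
      obtain ⟨c, hc⟩ : ∃ c, G.1 = MvPolynomial.C c :=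
        ⟨_, (MvPolynomial.totalDegree_eq_zero_iff_eq_C).1
          ((totalDegree_zero_iff_isHomogeneous (p := G.1)).2 G.2)⟩
      rw [hc, eval_C]
      change MvPolynomial.C c ∉ _ ↔ _
      constructor
      · rintro h1 rfl; exact h1 (by simp)
      · intro h1 h2
        exact ((chartPt (k := k) j v).1.base (IsLocalRing.closedPoint k)).isPrime.ne_top
          (Ideal.eq_top_of_isUnit_mem _ h2 ((isUnit_iff_ne_zero.2 h1).map MvPolynomial.C))
    have h2 := Proj.awayι_preimage_basicOpen (CohB1.polyGrading r k)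
      (Charts.X_mem_one (R := k) j) one_pos G.2 hd
    have e : HomogeneousLocalization.Away.isLocalizationElem (𝒜 := CohB1.polyGrading r k)
        (Charts.X_mem_one (R := k) j) G.2 = Charts.chartEquiv k j (Chart.dehomJ k j G.1) := by
      rw [Chart.chartEquiv_dehomJ_eq_mk k j (e := d) (by simpa using G.2)]
      apply HomogeneousLocalization.val_injective
      simp [HomogeneousLocalization.Away.isLocalizationElem, HomogeneousLocalization.Away.val_mk]
    rw [e] at h2
    refine (SetLike.ext_iff.1 h2 _).trans ?_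
    change ¬ (eval₂Hom (algebraMap k k) v ((Charts.chartEquiv k j).symm
      (Charts.chartEquiv k j (Chart.dehomJ k j G.1))) ∈ IsLocalRing.maximalIdeal k) ↔ _
    rw [IsLocalRing.maximalIdeal_eq_bot, Ideal.mem_bot, RingEquiv.symm_apply_apply,
      ← Chart.eval_dehomJ]
    rfl
  constructor
  · intro h1
    by_contra h2
    exact h1 ⟨hxj, hG.2 h2⟩
  · rintro h1 ⟨-, h2⟩
    exact hG.1 h2 h1

/-- Points of a closed subscheme are the points in its support. -/
theorem points_eq (I : (CohB1.ProjSpace r k).IdealSheafData) :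
    SgaExt.pointCount (I.subschemeι ≫ CohB1.ProjSpace.toSpec r k) k =
      Nat.card { g : Pts r k k // g.1.base (IsLocalRing.closedPoint k) ∈ I.support } := by
  refine Nat.card_eq_of_bijective (fun h => ⟨⟨h.1 ≫ I.subschemeι, by
    rw [Category.assoc]; exact h.2⟩, ?_⟩) ⟨?_, ?_⟩
  · rw [← SetLike.mem_coe, ← Scheme.IdealSheafData.range_subschemeι]
    exact ⟨h.1.base (IsLocalRing.closedPoint k), rfl⟩
  · intro a b hab
    exact Subtype.ext ((cancel_mono I.subschemeι).1 (congrArg (fun x => x.1.1) hab))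
  · rintro ⟨⟨g, hg⟩, hx⟩
    rw [← SetLike.mem_coe, ← Scheme.IdealSheafData.range_subschemeι] at hx
    obtain ⟨y, hy⟩ := hx
    set p := Scheme.SpecToEquivOfField k (CohB1.ProjSpace r k) g with hp
    have hgp : g = Spec.map p.2 ≫ (CohB1.ProjSpace r k).fromSpecResidueField p.1 := by
      rw [← Scheme.SpecToEquivOfField_symm_apply, hp, Equiv.symm_apply_apply]
    have hp1 : I.subschemeι y = p.1 := hy.trans rfl
    haveI : IsIso (I.subschemeι.residueFieldMap y) := by
      refine (ConcreteCategory.isIso_iff_bijective _).2 ⟨RingHom.injective _, ?_⟩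
      intro z
      obtain ⟨s, rfl⟩ := Scheme.residue_surjective _ y z
      obtain ⟨s', rfl⟩ := I.subschemeι.stalkMap_surjective y s
      exact ⟨(CohB1.ProjSpace r k).residue _ s', ConcreteCategory.congr_hom
        (Scheme.residue_residueFieldMap I.subschemeι y) s'⟩
    let h : Spec (CommRingCat.of k) ⟶ I.subscheme :=
      Spec.map (inv (I.subschemeι.residueFieldMap y) ≫
        ((CohB1.ProjSpace r k).residueFieldCongr hp1).hom ≫ p.2) ≫ I.subscheme.fromSpecResidueField y
    have hh : h ≫ I.subschemeι = g := by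
      simp only [h, Category.assoc, Spec.map_comp]
      rw [← Scheme.Hom.SpecMap_residueFieldMap_fromSpecResidueField,
        ← Spec.map_comp_assoc (I.subschemeι.residueFieldMap y) (inv (I.subschemeι.residueFieldMap y)),
        IsIso.hom_inv_id, Spec.map_id, Category.id_comp,
        Scheme.residueFieldCongr_fromSpecResidueField, ← hgp]
    exact ⟨⟨h, by rw [← Category.assoc, hh]; exact hg⟩, Subtype.ext (Subtype.ext hh)⟩

theorem units_mul_points [Fintype k] (G : Form r k d) :
    ((Nat.card k - 1) * SgaExt.pointCount ((hypIdeal G).subschemeι ≫ CohB1.ProjSpace.toSpec r k) k + 1 =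
      Nat.card { v : Fin (r + 1) → k // eval v G.1 = 0 }) ∨ eval (0 : Fin (r + 1) → k) G.1 ≠ 0 := by
  classical
  by_cases h00 : eval (0 : Fin (r + 1) → k) G.1 = 0
  swap
  · exact Or.inr h00
  left
  let T := Σ i : Fin (r + 1), { v : Cell r k i // eval (i.insertNth (1 : k) v.1) G.1 = 0 }
  have hpts : SgaExt.pointCount ((hypIdeal G).subschemeι ≫ CohB1.ProjSpace.toSpec r k) k =
      Nat.card T := by
    rw [points_eq]
    refine Nat.card_congr (Equiv.trans ?_
      { toFun := fun p : { p : Σ i, Cell r k i // eval (p.1.insertNth (1 : k) p.2.1) G.1 = 0 } =>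
          (⟨p.1.1, p.1.2, p.2⟩ : T)
        invFun := fun t => ⟨⟨t.1, t.2.1⟩, t.2.2⟩
        left_inv := fun _ => rfl
        right_inv := fun _ => rfl })
    exact ((Equiv.ofBijective _ (bijective_cells r k k)).subtypeEquiv fun p =>
      (mem_support_iff G p.1 p.2.1).symm).symm
  have hhom : (G.1).IsHomogeneous d := G.2
  have hscale : ∀ (c : k) (v : Fin (r + 1) → k), eval (c • v) G.1 = c ^ d * eval v G.1 := fun c v =>
    Charts.eval₂Hom_mul_of_isHomogeneous _ c v hhom
  let F : kˣ × T → { v : { v : Fin (r + 1) → k // eval v G.1 = 0 } // v.1 ≠ 0 } := fun x =>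
    ⟨⟨(x.1 : k) • x.2.1.insertNth (1 : k) x.2.2.1.1, by rw [hscale, x.2.2.2, mul_zero]⟩, fun h => by
      simpa using congrFun h x.2.1⟩
  have hF : Function.Bijective F := by
    constructor
    · rintro ⟨c, i, ⟨v, hv⟩, hv0⟩ ⟨c', i', ⟨v', hv'⟩, hv0'⟩ h
      have h1 : (c : k) • i.insertNth (1 : k) v = (c' : k) • i'.insertNth (1 : k) v' :=
        congrArg (fun x => x.1.1) h
      have key : ∀ (i i' : Fin (r + 1)) (c c' : kˣ) (v v' : Fin r → k)
          (_ : ∀ l, i.succAbove l < i → v l = 0),
          (c : k) • i.insertNth (1 : k) v = (c' : k) • i'.insertNth (1 : k) v' → ¬ i' < i := by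
        intro i i' c c' v v' hv h hlt
        obtain ⟨l, rfl⟩ := Fin.exists_succAbove_eq hlt.ne
        have := congrFun h (i.succAbove l)
        simp [hv l hlt] at this
        exact c'.ne_zero this.symm
      obtain rfl : i = i' := le_antisymm (not_lt.1 (key i i' c c' v v' hv h1))
        (not_lt.1 (key i' i c' c v' v hv' h1.symm))
      obtain rfl : c = c' := Units.ext (by simpa using congrFun h1 i)
      obtain rfl : v = v' := funext fun l => by simpa using congrFun h1 (i.succAbove l)
      rfl
    · rintro ⟨⟨u, hu⟩, hu0⟩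
      have hS : (Finset.univ.filter fun i => u i ≠ 0).Nonempty := by
        obtain ⟨i, hi⟩ := Function.ne_iff.1 hu0
        exact ⟨i, Finset.mem_filter.2 ⟨Finset.mem_univ _, hi⟩⟩
      set i := (Finset.univ.filter fun i => u i ≠ 0).min' hS with hi
      have hui : u i ≠ 0 := (Finset.mem_filter.1 (Finset.min'_mem _ hS)).2
      have hins : i.insertNth (1 : k) (fun l => (u i)⁻¹ * u (i.succAbove l)) = (u i)⁻¹ • u := by
        funext l
        rcases Fin.eq_self_or_eq_succAbove i l with h | ⟨l', rfl⟩
        · subst h; simp [inv_mul_cancel₀ hui]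
        · simp
      refine ⟨⟨Units.mk0 _ hui, i, ⟨fun l => (u i)⁻¹ * u (i.succAbove l), fun l hl => ?_⟩, ?_⟩, ?_⟩
      · rw [mul_eq_zero]
        right
        by_contra hne
        exact absurd (Finset.min'_le (Finset.univ.filter fun i => u i ≠ 0) _
          (Finset.mem_filter.2 ⟨Finset.mem_univ _, hne⟩)) (not_le.2 hl)
      · rw [hins, hscale, hu, mul_zero]
      · refine Subtype.ext (Subtype.ext ?_)
        simp only [F, Units.val_mk0, hins, smul_smul, mul_inv_cancel₀ hui, one_smul]
  have h2 : Nat.card { v : Fin (r + 1) → k // eval v G.1 = 0 } =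
      Nat.card { v : { v : Fin (r + 1) → k // eval v G.1 = 0 } // v.1 ≠ 0 } + 1 := by
    rw [← Nat.card_congr (Equiv.sumCompl fun v : { v : Fin (r + 1) → k // eval v G.1 = 0 } => v.1 ≠ 0),
      Nat.card_sum]
    congr 1
    haveI : Subsingleton { v : { v : Fin (r + 1) → k // eval v G.1 = 0 } // ¬ v.1 ≠ 0 } :=
      ⟨fun a b => Subtype.ext (Subtype.ext ((not_not.1 a.2).trans (not_not.1 b.2).symm))⟩
    exact Nat.card_of_subsingleton
      (⟨⟨0, h00⟩, fun h => h rfl⟩ : { v : { v : Fin (r + 1) → k // eval v G.1 = 0 } // ¬ v.1 ≠ 0 })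
  rw [h2, hpts, ← Nat.card_eq_of_bijective F hF, Nat.card_prod, Nat.card_units]

end Groth.Agent.Lib.Quad45.Geom
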